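/-
The Weyl group elements that multiply a parameter vector of order thirteen of type E7 by a scalar.
-/
import Cfsg.Agent.Lib.Chev.Tori.E7
import Cfsg.Agent.Lib.Chev.SylowTori.Lin

set_option autoImplicit false
set_option maxRecDepth 100000

namespace CfsgLib.Chev.E7Prime

open Cfsg.Lie CfsgLib.Chev CfsgLib.Chev.SylowTori

/-- the word of the twisted Coxeter class -/
def w12 : List ℕ := Tori.cycE7.word

/-- a vector of order thirteen -/
def v0 : List ℤ := [2, 0, 10, 11, 12, 0, 1]

/-- the coordinates of a root -/
noncomputable def rowZ (r : ℕ) : List ℤ := (List.range 7).map fun j => auxE7.a r j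

/-- the pairing of a coordinate list -/
def dotZ (b c : List ℤ) : ℤ := ((List.range 7).map fun j => b.getD j 0 * c.getD j 0).sum

/-- the value of a root -/
noncomputable def val (r : ℕ) : ℤ := dotZ (rowZ r) v0 % 13

/-- the simple roots -/
noncomputable def sv : List ℕ := (List.range 7).map fun i => chevE7.simple i

/-- the image of a coordinate list under a candidate -/
noncomputable def app (t : List ℕ) (b : List ℤ) : List ℤ :=
  (List.range 7).map fun j => ((List.range 7).map fun i => b.getD i 0 * auxE7.a (t.getD i 0) j).sum

/-- the candidates for the image of one simple root -/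
noncomputable def cands (c : ℤ) (i : ℕ) : List ℕ :=
  (List.range chevE7.nroots).filter fun r => decide (val r = c * val (chevE7.simple i) % 13)

/-- the candidates for the first `n` simple roots -/
noncomputable def ext (c : ℤ) : ℕ → List (List ℕ)
  | 0 => [[]]
  | i + 1 => (ext c i).flatMap fun t => ((cands c i).filter fun r => (List.range i).all fun j =>
      decide (pr chevE7 auxE7 (t.getD j 0) r = pr chevE7 auxE7 (chevE7.simple j) (chevE7.simple i))).map
        fun r => t ++ [r]

/-- a unit coordinate list -/
def unit (i : ℕ) : List ℤ := (List.range 7).map fun j => if j = i then 1 else 0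

/-- an iterate -/
noncomputable def appN (t : List ℕ) : ℕ → List ℤ → List ℤ
  | 0, b => b
  | k + 1, b => app t (appN t k b)

/-- two polynomials -/
def polys : List (List ℤ) := [[-1, 0, 1, 1, -1, -1, 0, 1], [1, 0, -1, 1, 1, -1, 0, 1]]

/-- a polynomial kills a candidate -/
noncomputable def kills (t : List ℕ) (p : List ℤ) : Bool :=
  (List.range 7).all fun i => (List.range 7).all fun j =>
    decide (((List.range 8).map fun k => p.getD k 0 * (appN t k (unit i)).getD j 0).sum = 0)

theorem v0_chk : (List.range 7).all (fun i =>
    decide (val (wf auxE7 w12 (chevE7.simple i)) = 2 * val (chevE7.simple i) % 13)) = true := by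
  decide +kernel

theorem v0_simple : (List.range 7).all (fun i => decide (val (chevE7.simple i) = v0.getD i 0)) = true := by
  decide +kernel

theorem stab_chk : (ext 1 7).all (fun t => t == sv ||
    (List.range 7).any fun i => appN t 5 (unit i) != unit i) = true := by decide +kernel

theorem coset_chk : (ext 2 7).all (fun t => polys.any fun p => kills t p) = true := by decide +kernel

theorem polys_chk : polys.all (fun p =>
    decide (((List.range 8).map fun k => p.getD k 0 * 2 ^ k).sum % 5 ≠ 0)) = true := by decide +kernel

theorem sv_len : sv.length = 7 := by decide +kernel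

theorem ext_len : (ext 1 7).length = 8 ∧ (ext 2 7).length = 8 := by decide +kernel

end CfsgLib.Chev.E7Prime
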