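/-
Classical groups over the fields with 8 and 64 elements that contain elements of order 65.
-/
import Cfsg.Agent.Lib.KnownB.SpSpectrum
import Cfsg.Agent.Lib.KnownB.PSLOrders
import Cfsg.Agent.Lib.KnownB.PSUOrders.Basic
import Cfsg.Agent.Lib.KnownB.PSUOrders.Tori

set_option autoImplicit false

namespace CfsgLib.Chev.E7Prime

open CfsgLib.KnownB CfsgLib.KnownB.PrimeGraph

universe u

/-- an element of order 65 from a multiple -/
theorem of_dvd {M : Type*} [Group M] [Finite M] {x : M} (h : 65 ∣ orderOf x) :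
    ∃ y : M, orderOf y = 65 :=
  ⟨x ^ (orderOf x / 65), orderOf_pow_orderOf_div (orderOf_pos x).ne' h⟩

variable {F : Type u} [Field F] [Fintype F]

theorem psl2 (hF : Fintype.card F = 64) :
    ∃ y : Matrix.ProjectiveSpecialLinearGroup (Fin 2) F, orderOf y = 65 := by
  obtain ⟨h, hh⟩ := PSLOrders.exists_singer_order (F := F) (n := 2) two_pos
  refine of_dvd (dvd_trans (dvd_of_eq ?_) hh)
  simp only [PSLOrders.singer, PSLOrders.geom, hF]
  norm_num

theorem psl4 (hF : Fintype.card F = 8) :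
    ∃ y : Matrix.ProjectiveSpecialLinearGroup (Fin 4) F, orderOf y = 65 := by
  obtain ⟨h, hh⟩ := PSLOrders.exists_singer_order (F := F) (n := 4) (by norm_num)
  refine of_dvd (dvd_trans ?_ hh)
  simp only [PSLOrders.singer, PSLOrders.geom, hF]
  norm_num

theorem psp2 (hF : Fintype.card F = 8) : ∃ y : Cfsg.PSp 2 F, orderOf y = 65 := by
  obtain ⟨g, hg⟩ := exists_sp_twisted (F := F) (h := 2) two_pos
  rw [hF] at hg
  exact ⟨_, (SpSpectrum.orderOf_mk_odd two_pos (by rw [hg]; decide)).trans hg⟩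

theorem psp3 (hF : Fintype.card F = 8) : ∃ y : Cfsg.PSp 3 F, orderOf y = 65 := by
  obtain ⟨x, hx⟩ := exists_sp_twisted (F := F) (h := 2) two_pos
  obtain ⟨g, hg⟩ := exists_sp_pair (F := F) (show 2 + 1 ≤ 3 by norm_num) x 1
  rw [orderOf_one, Nat.lcm_one_right, hx, hF] at hg
  exact ⟨_, (SpSpectrum.orderOf_mk_odd (by norm_num) (by rw [hg]; decide)).trans hg⟩

theorem psu4 (hF : Fintype.card F = 64) : ∃ y : Cfsg.PSU 4 F 8, orderOf y = 65 := by
  obtain ⟨σ, hσ⟩ := CfsgLib.Classical.Unitary.exists_uFrob (F := F) (q := 8)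
    (by rw [Nat.card_eq_fintype_card, hF]; norm_num)
  obtain ⟨A, hA⟩ := PSUOrders.exists_singer (q := 8) (by rw [hF]; norm_num) hσ (d := 4) (by norm_num)
  have h65 : 65 ∣ orderOf A := dvd_trans (by decide) hA
  refine of_dvd (x := (QuotientGroup.mk A : Cfsg.PSU 4 F 8)) (h65.trans ?_)
  set m := orderOf (QuotientGroup.mk A : Cfsg.PSU 4 F 8)
  obtain ⟨c, h1, h2, h3⟩ := PSUOrders.scalar_of_mk_pow (n := 4) (q := 8) (by rw [hF]; norm_num)
    (by norm_num) (g := A) (m := m) (pow_orderOf_eq_one _)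
  refine orderOf_dvd_of_pow_eq_one (Subtype.ext (Subtype.ext ?_))
  have hc : c = 1 := by
    have : c ^ (8 + 1) = c * (c ^ 4) ^ 2 := by ring
    rw [h1, h2] at this
    simpa using this.symm
  rw [hc, map_one] at h3
  simpa using h3

end CfsgLib.Chev.E7Prime
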