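/-
Lang elements over a finite extension for groups that contain their adjoint tori there.
-/
import Cfsg.Agent.Lib.Chev.SemiToral.Frame

set_option autoImplicit false

namespace CfsgLib.Chev.E7Prime

open Cfsg.Lie Matrix CfsgLib.Chev CfsgLib.Chev.Lang
open CfsgLib.Chev.SemiToral (fixed_iff degree degree_pos)

universe u

variable {D : ChevalleyDatum} {A : Aux}

/-- elements fixed by a power map come from the finite field -/
theorem descend {F K : Type*} [Field F] [Fintype F] [Field K] (h : Std D A)
    (hmem : ∀ b : Fin D.rank → Fˣ, dgn D A b ∈ D.group F) (ι : F →+* K) {σ : K →+* K}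
    (hσ : ∀ x, σ x = x ^ Fintype.card F) (hbij : Function.Bijective σ) {y : GL D.Idx K}
    (hy : y ∈ D.group K) (hfix : Matrix.GeneralLinearGroup.map σ y = y) :
    ∃ x : ↥(D.group F), Matrix.GeneralLinearGroup.map ι (x : GL D.Idx F) = y := by
  obtain ⟨u, ⟨x, hx, b, rfl⟩, hu⟩ := Tori.fixed_mem_Gad h
    (σ := RingEquiv.ofBijective σ hbij) (ι := ι)
    (fun z => (iff_of_eq (by show (σ z = z) = _; rw [hσ])).trans (fixed_iff ι z)) hy hfix
  exact ⟨⟨_, mul_mem hx (hmem b)⟩, hu⟩

/-- Lang's elements over one finite extension -/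
theorem lang_finite (h : Std D A) (hdet : (cartanM D A).det ≠ 0) {F : Type u} [Field F]
    [Fintype F] {N : ℕ} (hN : 0 < N) (hco : (Fintype.card F).Coprime N)
    (hmem : ∀ (L : Type) [Field L] [Fintype L], (F →+* L) → ∀ b : Fin D.rank → Lˣ,
      dgn D A b ∈ D.group L) :
    ∃ (L : Type) (_ : Field L) (_ : Fintype L) (ι : F →+* L) (σ : L →+* L),
      (∀ x, σ x = x ^ Fintype.card F) ∧ Function.Bijective σ ∧ N ∣ Fintype.card L - 1 ∧
      ∀ w, Letters D w → ∃ G ∈ D.group L,
        Matrix.GeneralLinearGroup.map σ G = G * nW L h.good w := by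
  classical
  have g := h.good
  have : Finite (GL D.Idx F) := finite_GL
  obtain ⟨p, hp⟩ := CharP.exists F
  have := Fact.mk (CharP.char_is_prime F p)
  obtain ⟨f, -, hf⟩ := FiniteField.card F p
  set d := degree D F N with hd
  have hd0 : 0 < d := degree_pos hN
  have : NeZero d := ⟨hd0.ne'⟩
  let L := FiniteField.Extension F p d
  have hL : Nat.card L = Fintype.card F ^ d := by
    rw [FiniteField.natCard_extension, Nat.card_eq_fintype_card]
  have : Finite L := Nat.finite_of_card_ne_zero (by
    rw [hL]; exact pow_ne_zero _ Fintype.card_ne_zero)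
  have := Fintype.ofFinite L
  have hLc : Fintype.card L = Fintype.card F ^ d := by rw [← Nat.card_eq_fintype_card, hL]
  let σL : L →+* L := (FiniteField.frobeniusAlgHom F L).toRingHom
  have hσL : ∀ x, σL x = x ^ Fintype.card F := fun _ => rfl
  have hNL : N ∣ Fintype.card L - 1 := by
    rw [hLc, hd, degree, mul_comm, pow_mul]
    have h2 := (Nat.ModEq.pow_totient hco).pow (Nat.card (GL D.Idx F))
    rw [one_pow] at h2
    exact (Nat.modEq_iff_dvd' (Nat.one_le_pow _ _ (pow_pos Fintype.card_pos _))).1 h2.symm
  refine ⟨L, inferInstance, inferInstance, algebraMap F L, σL, hσL,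
    (Finite.injective_iff_bijective).1 σL.injective, hNL, fun w hw => ?_⟩
  obtain ⟨K, _, _, ι, σ, hσ, G, hG, hmG⟩ :=
    lang h hdet (monomialSubgroup_le_group g (nW_mem (F := F) g hw))
  rw [map_nW] at hmG
  have : CharP K p := charP_of_injective_ringHom ι.injective p
  let : Algebra F K := ι.toAlgebra
  let ψ : L →ₐ[F] K := IsAlgClosed.lift
  set n := nW K g w
  have hiter : ∀ k : ℕ, Matrix.GeneralLinearGroup.map (iterateFrobenius K p (f * k)) G = G * n ^ k := by
    intro k
    induction k with
    | zero =>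
      rw [mul_zero, iterateFrobenius_zero, pow_zero, mul_one]
      exact Units.ext (Matrix.ext fun i j => rfl)
    | succ k ih =>
      have hcomp : iterateFrobenius K p (f * (k + 1)) = σ.comp (iterateFrobenius K p (f * k)) :=
        RingHom.ext fun x => by
          rw [RingHom.comp_apply, hσ, iterateFrobenius_def, iterateFrobenius_def, hf, ← pow_mul,
            ← pow_add, mul_add, mul_one]
      have e1 : Matrix.GeneralLinearGroup.map (σ.comp (iterateFrobenius K p (f * k))) G =
          Matrix.GeneralLinearGroup.map σ (Matrix.GeneralLinearGroup.map (iterateFrobenius K p (f * k)) G) :=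
        Units.ext (Matrix.ext fun i j => rfl)
      rw [hcomp, e1, ih, map_mul, hmG, map_pow, map_nW]
      show G * n * n ^ k = _
      rw [mul_assoc, ← pow_succ']
  have hnd : n ^ d = 1 := by
    rw [show n = Matrix.GeneralLinearGroup.map ι (nW F g w) from (map_nW g ι w).symm, ← map_pow, hd,
      degree, pow_mul, pow_card_eq_one', one_pow, map_one]
  have hfix : Matrix.GeneralLinearGroup.map (iterateFrobenius K p (f * d)) G = G := by
    rw [hiter d, hnd, mul_one]
  obtain ⟨G', hG'⟩ := descend h (hmem L (algebraMap F L)) (ψ : L →+* K) (σ := iterateFrobenius K p (f * d))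
    (fun x => by rw [iterateFrobenius_def, hLc, hf, ← pow_mul])
    (bijective_iterateFrobenius K p _) hG hfix
  refine ⟨G'.1, G'.2, ?_⟩
  have hinj : Function.Injective (Matrix.GeneralLinearGroup.map (n := D.Idx) (ψ : L →+* K)) :=
    fun x y e => Units.ext (Matrix.map_injective ψ.toRingHom.injective (congrArg Units.val e))
  apply hinj
  rw [map_mul, map_nW, hG', ← hmG, ← hG']
  refine Units.ext (Matrix.ext fun i j => ?_)
  show ψ (σL _) = σ (ψ _)
  rw [hσL, hσ, map_pow]

end CfsgLib.Chev.E7Prime
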