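/-
`E₇(2)` has no element of order 65.
-/
import Cfsg.Agent.Lib.Chev.E7Prime.Check
import Cfsg.Agent.Lib.Chev.E7Prime.Lang
import Cfsg.Agent.Lib.Chev.F4Prime.Toral
import Cfsg.Agent.Lib.Chev.G2Spec.Cent
import Cfsg.Agent.Lib.Chev.Data.WeylCheckE7
import Cfsg.Agent.Lib.Chev.OrderTypes

set_option autoImplicit false
set_option maxRecDepth 100000

namespace CfsgLib.Chev.E7Prime

open Cfsg.Lie Matrix CfsgLib.Chev CfsgLib.Chev.SylowTori
open CfsgLib.Chev.Lang (dgn tor_eq_dgn map_dgn)
open CfsgLib.KnownB.ChevField (group_map_le)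

universe u

theorem rank_E7 : chevE7.rank = 7 := by decide +kernel

/-- a list sum over a range -/
theorem lsum {M : Type*} [AddCommMonoid M] (f : ℕ → M) :
    ∀ n, ((List.range n).map f).sum = ∑ i ∈ Finset.range n, f i
  | 0 => by simp
  | n + 1 => by simp [List.range_succ, Finset.sum_range_succ, lsum f n]

theorem getD_map_range {α : Type*} (f : ℕ → α) (d : α) {n i : ℕ} (h : i < n) :
    ((List.range n).map f).getD i d = f i := by
  rw [List.getD_eq_getElem _ _ (by simpa using h)]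
  simp

/-! ### the adjoint torus in characteristic two -/

theorem dgn_tor_two {L : Type*} [Field L] [Fintype L] [CharP L 2] (b : Fin chevE7.rank → Lˣ) :
    ∃ c, dgn chevE7 auxE7 b = tor chevE7 auxE7 c := by
  classical
  have g := stdE7.good
  obtain ⟨M, -, h2⟩ := Tori.dinv_spec Tori.dinvE7
  obtain ⟨m, -, hm⟩ := FiniteField.card L 2
  set Q := Fintype.card L with hQ
  have hev : 2 * (Q / 2) = Q := Nat.mul_div_cancel' (hm ▸ dvd_pow_self 2 m.pos.ne')
  set b' : Fin chevE7.rank → Lˣ := b ^ (Q / 2) with hb'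
  have hpow : b' ^ 2 = b := by
    funext i
    rw [hb', ← pow_mul, mul_comm, hev, Pi.pow_apply, show Q = (Q - 1) + 1 by
      have := Fintype.card_pos (α := L); omega, pow_succ, ← Fintype.card_units, pow_card_eq_one,
      one_mul]
  have hc : mHom L (cartanM chevE7 auxE7) (mHom L M b') = b' ^ 2 := by rw [mHom_mul, h2, Tori.mHom_scalar]
  exact ⟨mHom L M b', by rw [← hpow, ← hc, tor_eq_dgn g]; rfl⟩

theorem dgn_mem_two {L : Type*} [Field L] [Fintype L] [CharP L 2] (b : Fin chevE7.rank → Lˣ) :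
    dgn chevE7 auxE7 b ∈ chevE7.group L := by
  obtain ⟨c, hc⟩ := dgn_tor_two b
  exact diagonalSubgroup_le_group stdE7.good (by rw [diagonalSubgroup_eq stdE7.good, hc]; exact ⟨c, rfl⟩)

/-! ### roots and values -/

/-- the vector of order thirteen -/
def v0z : Fin chevE7.rank → ZMod 13 := fun i => ((v0.getD i.val 0 : ℤ) : ZMod 13)

theorem lin_v0 (r : ℕ) : lin chevE7 auxE7 r v0z = ((val r : ℤ) : ZMod 13) := by
  rw [lin_apply, val, dotZ, lsum]
  have h13 : ∀ z : ℤ, ((z % 13 : ℤ) : ZMod 13) = z := fun z =>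
    (ZMod.intCast_eq_intCast_iff' _ _ 13).2 (by push_cast; rw [Int.emod_emod])
  rw [h13, Int.cast_sum, ← rank_E7, Finset.sum_range]
  refine Finset.sum_congr rfl fun j _ => ?_
  rw [Int.cast_mul, rowZ, ← rank_E7, getD_map_range _ _ j.isLt]
  rfl

theorem val_range (r : ℕ) : 0 ≤ val r ∧ val r < 13 :=
  ⟨Int.emod_nonneg _ (by norm_num), Int.emod_lt_of_pos _ (by norm_num)⟩

theorem val_of_cast {r s : ℕ} {c : ℤ}
    (h : ((val r : ℤ) : ZMod 13) = (c : ZMod 13) * ((val s : ℤ) : ZMod 13)) :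
    val r = c * val s % 13 := by
  rw [← Int.cast_mul, ZMod.intCast_eq_intCast_iff'] at h
  have h1 := val_range r
  push_cast at h
  omega

theorem v0_eigen : v0z ∈ eigen (ZMod 13) chevE7 auxE7 w12 2 := by
  refine mem_eigen.2 (funext fun i => ?_)
  show lin chevE7 auxE7 (wf auxE7 w12 (chevE7.simple i)) v0z = 2 * v0z i
  have h1 := List.all_eq_true.1 v0_chk i.val (List.mem_range.2 (rank_E7 ▸ i.isLt))
  rw [decide_eq_true_eq] at h1
  have h13 : ∀ z : ℤ, ((z % 13 : ℤ) : ZMod 13) = z := fun z =>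
    (ZMod.intCast_eq_intCast_iff' _ _ 13).2 (by push_cast; rw [Int.emod_emod])
  rw [lin_v0, h1, h13, Int.cast_mul, ← lin_v0, lin_simple stdE7.good]
  norm_num

/-- the images of the simple roots -/
noncomputable def imgs (w : List ℕ) : List ℕ := (List.range 7).map fun i => wf auxE7 w (chevE7.simple i)

theorem imgs_mem {w : List ℕ} (hw : Letters chevE7 w) {c : ℤ}
    (h : ∀ i < 7, val (wf auxE7 w (chevE7.simple i)) = c * val (chevE7.simple i) % 13) :
    imgs w ∈ ext c 7 := by
  have g := stdE7.good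
  have hs : ∀ i < 7, chevE7.simple i < chevE7.nroots := fun i hi => g.simple_lt i (by rw [rank_E7]; exact hi)
  suffices ∀ n ≤ 7, (List.range n).map (fun i => wf auxE7 w (chevE7.simple i)) ∈ ext c n from this 7 le_rfl
  intro n
  induction n with
  | zero => simp [ext]
  | succ n ih =>
    intro hn
    rw [List.range_succ, List.map_append, ext, List.mem_flatMap]
    refine ⟨_, ih (by omega), List.mem_map.2 ⟨wf auxE7 w (chevE7.simple n), List.mem_filter.2 ⟨?_, ?_⟩, rfl⟩⟩
    · exact List.mem_filter.2 ⟨List.mem_range.2 (wf_lt g hw (hs n (by omega))),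
        decide_eq_true (h n (by omega))⟩
    · refine List.all_eq_true.2 fun j hj => decide_eq_true ?_
      rw [List.mem_range] at hj
      rw [getD_map_range _ _ hj]
      exact pr_wf g hw (hs j (by omega)) (hs n (by omega))

theorem app_row {w : List ℕ} (hw : Letters chevE7 w) {r : ℕ} (hr : r < chevE7.nroots) :
    app (imgs w) (rowZ r) = rowZ (wf auxE7 w r) := by
  refine List.map_congr_left fun j hj => ?_
  rw [List.mem_range] at hj
  rw [a_wf stdE7.good hw hr (by rw [rank_E7]; exact hj), lsum, ← rank_E7, Finset.sum_range]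
  refine Finset.sum_congr rfl fun i _ => ?_
  rw [rowZ, imgs, getD_map_range _ _ (rank_E7 ▸ i.isLt), getD_map_range _ _ (rank_E7 ▸ i.isLt)]

theorem unit_eq : (List.range 7).all (fun i => decide (unit i = rowZ (chevE7.simple i))) = true := by
  decide +kernel

theorem appN_row {w : List ℕ} (hw : Letters chevE7 w) {r : ℕ} (hr : r < chevE7.nroots) :
    ∀ k, (wf auxE7 w)^[k] r < chevE7.nroots ∧ appN (imgs w) k (rowZ r) = rowZ ((wf auxE7 w)^[k] r)
  | 0 => ⟨hr, rfl⟩
  | k + 1 => by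
    obtain ⟨h1, h2⟩ := appN_row hw hr k
    rw [Function.iterate_succ_apply']
    exact ⟨wf_lt stdE7.good hw h1, by rw [appN, h2, app_row hw h1]⟩

theorem wd_iterate (l : List (Fin chevE7.rank)) (r : Fin chevE7.nroots) : ∀ k,
    ((((l.map (wS stdE7.good)).prod ^ k : Weyl stdE7.good).1 r).val) =
      (wf auxE7 (l.map Fin.val))^[k] r.val
  | 0 => by simp
  | k + 1 => by
    rw [pow_succ', Subgroup.coe_mul, Equiv.Perm.mul_apply, wS_prod_apply,
      Function.iterate_succ_apply', ← wd_iterate l r k]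

/-- the stabiliser of the vector of order thirteen has order prime to five -/
theorem St_five {L : Type} [Field L] {c : Fin chevE7.rank → Lˣ}
    (heq : ∀ r < chevE7.nroots, ∀ t < chevE7.nroots,
      chi chevE7 auxE7 c r = chi chevE7 auxE7 c t → val r = val t) :
    ¬ 5 ∣ Nat.card (F4Prime.St stdE7.good c) := by
  intro hdvd
  have g := stdE7.good
  have : Fact (Nat.Prime 5) := ⟨by norm_num⟩
  obtain ⟨⟨u, hu⟩, hord⟩ := exists_prime_orderOf_dvd_card' 5 hdvd
  rw [← Subgroup.orderOf_coe] at hord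
  obtain ⟨l, rfl⟩ := wS_gen stdE7.good u
  change orderOf (l.map (wS stdE7.good)).prod = 5 at hord
  set w := l.map Fin.val
  have hw : Letters chevE7 w := letters_map l
  have hs : ∀ i < 7, chevE7.simple i < chevE7.nroots := fun i hi => g.simple_lt i (by rw [rank_E7]; exact hi)
  have hval : ∀ i < 7, val (wf auxE7 w (chevE7.simple i)) = 1 * val (chevE7.simple i) % 13 := by
    intro i hi
    have := hu ⟨_, hs i hi⟩
    rw [wS_prod_apply] at this
    have h1 := val_range (chevE7.simple i)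
    rw [heq _ (wf_lt g hw (hs i hi)) _ (hs i hi) this]
    omega
  have hst := List.all_eq_true.1 stab_chk _ (imgs_mem hw hval)
  simp only [Bool.or_eq_true, beq_iff_eq, List.any_eq_true, List.mem_range, bne_iff_ne] at hst
  rcases hst with h | ⟨i, hi, h⟩
  · have hnil : Letters chevE7 [] := fun _ h => absurd h List.not_mem_nil
    have hsame : SameOn chevE7 (wf auxE7 w) (wf auxE7 []) := by
      refine sameOn_of_simple g (wf_rootMap g hw) (wf_rootMap g hnil) fun m hm => ?_
      rw [rank_E7] at hm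
      exact List.map_inj_left.1 h m (List.mem_range.2 hm)
    have h2 : (l.map (wS stdE7.good)).prod =
        (([] : List (Fin chevE7.rank)).map (wS stdE7.good)).prod := (wS_prod_eq stdE7.good).2 hsame
    rw [h2, List.map_nil, List.prod_nil, orderOf_one] at hord
    omega
  · refine h ?_
    have hu1 := decide_eq_true_eq.mp (List.all_eq_true.1 unit_eq i (List.mem_range.2 hi))
    rw [hu1, (appN_row hw (hs i hi) 5).2]
    congr 1
    have h2 := wd_iterate l ⟨_, hs i hi⟩ 5
    rw [← hord, pow_orderOf_eq_one] at h2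
    simpa [hord] using h2.symm

/-- an element that multiplies the vector of order thirteen by two fixes no nonzero vector of order five
up to the factor two -/
theorem coset_five {w : List ℕ} (hw : Letters chevE7 w)
    (hval : ∀ i < 7, val (wf auxE7 w (chevE7.simple i)) = 2 * val (chevE7.simple i) % 13)
    {v : Fin chevE7.rank → ZMod 5} (hv : v ∈ eigen (ZMod 5) chevE7 auxE7 w 2) : v = 0 := by
  have : Fact (Nat.Prime 5) := ⟨by norm_num⟩
  have g := stdE7.good
  have hk := List.all_eq_true.1 coset_chk _ (imgs_mem hw hval)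
  simp only [List.any_eq_true, kills, List.all_eq_true, List.mem_range, decide_eq_true_eq] at hk
  obtain ⟨p, hp, hk⟩ := hk
  have hp2 := decide_eq_true_eq.mp (List.all_eq_true.1 polys_chk p hp)
  funext i
  have hi : i.val < 7 := rank_E7 ▸ i.isLt
  have hs := g.simple_lt i i.isLt
  have hlin : ∀ k, lin chevE7 auxE7 ((wf auxE7 w)^[k] (chevE7.simple i)) v = 2 ^ k * v i := by
    intro k
    induction k with
    | zero => simpa using lin_simple g i v
    | succ k ih =>
      rw [Function.iterate_succ_apply', lin_wf g hw (appN_row hw hs k).1, mem_eigen.1 hv, map_smul,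
        smul_eq_mul, ih, pow_succ]
      ring
  have hsum : ((((List.range 8).map fun k => p.getD k 0 * 2 ^ k).sum : ℤ) : ZMod 5) * v i = 0 := by
    rw [lsum, Int.cast_sum, Finset.sum_mul]
    simp only [Int.cast_mul, Int.cast_pow, Int.cast_ofNat, mul_assoc, ← hlin]
    simp only [lin_apply, Finset.mul_sum, ← mul_assoc]
    rw [Finset.sum_comm]
    refine Finset.sum_eq_zero fun j _ => ?_
    rw [← Finset.sum_mul]
    have h1 := hk i.val hi j.val (rank_E7 ▸ j.isLt)
    rw [lsum] at h1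
    have h2 := congrArg (Int.cast : ℤ → ZMod 5) h1
    rw [Int.cast_sum, Int.cast_zero] at h2
    refine mul_eq_zero_of_left (Eq.trans (Finset.sum_congr rfl fun k _ => ?_) h2) _
    rw [Int.cast_mul]
    congr 1
    have hu1 := decide_eq_true_eq.mp (List.all_eq_true.1 unit_eq i.val (List.mem_range.2 hi))
    rw [hu1, (appN_row hw hs k).2, rowZ, getD_map_range _ _ (rank_E7 ▸ j.isLt)]
  refine (mul_eq_zero.1 hsum).resolve_left fun h0 => hp2 ?_
  rw [ZMod.intCast_zmod_eq_zero_iff_dvd] at h0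
  exact Int.emod_eq_zero_of_dvd (by exact_mod_cast h0)

/-! ### the field with two elements -/

theorem chi_zp {L : Type*} [Field L] {N : ℕ} [NeZero N] {ζ : Lˣ} (hζ : IsPrimitiveRoot ζ N)
    {v : Fin chevE7.rank → ZMod N} {c : Fin chevE7.rank → Lˣ}
    (hc : dgn chevE7 auxE7 (fun i => zp ζ (v i)) = tor chevE7 auxE7 c)
    {r : ℕ} (hr : r < chevE7.nroots) : chi chevE7 auxE7 c r = zp ζ (lin chevE7 auxE7 r v) := by
  rw [tor_eq_dgn stdE7.good] at hc
  have h1 := dgn_inj stdE7.good hc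
  rw [← wt_zp hζ, chi_eq_wt stdE7.good c hr, wt, wt]
  refine Finset.prod_congr rfl fun j hj => ?_
  rw [Lang.ext, dif_pos (Finset.mem_range.1 hj)]
  exact congrArg (· ^ auxE7.a r j) (congrFun h1 ⟨j, Finset.mem_range.1 hj⟩).symm

/-- a twisted torus element is fixed -/
theorem twist_fixed {L : Type*} [Field L] {N q : ℕ} [NeZero N] {ζ : Lˣ} (hζ : IsPrimitiveRoot ζ N)
    {σ : L →+* L} (hσ : ∀ x, σ x = x ^ q) [Fintype L] [CharP L 2]
    {l : List ℕ} (hl : Letters chevE7 l)
    {v : Fin chevE7.rank → ZMod N} (hv : v ∈ eigen (ZMod N) chevE7 auxE7 l (q : ZMod N))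
    {G : GL chevE7.Idx L} (hGt : Matrix.GeneralLinearGroup.map σ G = G * nW L stdE7.good l) :
    Matrix.GeneralLinearGroup.map σ (G * dgn chevE7 auxE7 (fun i => zp ζ (v i)) * G⁻¹) =
      G * dgn chevE7 auxE7 (fun i => zp ζ (v i)) * G⁻¹ := by
  have g := stdE7.good
  set a : Fin chevE7.rank → Lˣ := fun i => zp ζ (v i) with ha
  set a' : Fin chevE7.rank → Lˣ := fun i => Units.map (σ : L →* L) (a i)
  obtain ⟨c, hc⟩ := dgn_tor_two a'
  obtain ⟨c', hc'⟩ := monomial_conj_tor g (nW_mem (F := L) g hl) c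
  have hb : nW L g l * dgn chevE7 auxE7 a' * (nW L g l)⁻¹ =
      dgn chevE7 auxE7 fun i => chi chevE7 auxE7 c' (chevE7.simple i) := by
    rw [hc, hc', tor_eq_dgn g]
  rw [map_mul, map_mul, map_inv, hGt, map_dgn,
    show G * nW L g l * dgn chevE7 auxE7 a' * (G * nW L g l)⁻¹ =
      G * (nW L g l * dgn chevE7 auxE7 a' * (nW L g l)⁻¹) * G⁻¹ by group, hb]
  congr 3
  funext i
  have hs := g.simple_lt i i.isLt
  have hs' := wf_lt g hl.reverse hs
  have h2 := Tori.conj_dgn_wt stdE7 (nW_acts g hl) hb hs'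
  rw [wf_rev_right g hl hs, wt_simple g _ i.isLt, Lang.ext, dif_pos i.isLt] at h2
  rw [h2, show wt chevE7 auxE7 (Lang.ext a') (wf auxE7 l.reverse (chevE7.simple i)) =
      wt chevE7 auxE7 (Lang.ext a) (wf auxE7 l.reverse (chevE7.simple i)) ^ q by
    rw [wt, wt, ← Finset.prod_pow]
    refine Finset.prod_congr rfl fun j hj => ?_
    rw [Lang.ext, Lang.ext, dif_pos (Finset.mem_range.1 hj), dif_pos (Finset.mem_range.1 hj),
      ← map_zpow]
    exact Units.ext (hσ _), wt_zp hζ, ← zp_nat hζ]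
  show zp ζ _ = zp ζ (v i)
  congr 1
  have h3 := lin_wf g hl hs' v
  rw [wf_rev_right g hl hs, mem_eigen.1 hv, map_smul, smul_eq_mul, lin_simple g] at h3
  exact h3.symm

theorem two_ne : ((2 : ℤ) : ZMod 13) ≠ 0 := by decide

theorem prod13 : ¬ 13 ^ 2 ∣ 2 ^ (chevE7.nroots / 2) *
    (([2, 6, 8, 10, 12, 14, 18] : List ℕ).map fun d => 2 ^ d - 1).prod := by decide +kernel

theorem card13 {F : Type*} [Field F] [Fintype F] (hF : Fintype.card F = 2) :
    ¬ 13 ^ 2 ∣ Nat.card ↥(chevE7.group F) := by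
  have e := order_formula stdE7 weylOKE7 smithE7 poinE7 hF
  simp only [show (2 : ℕ) - 1 = 1 from rfl, Nat.gcd_one_right, Finset.prod_const_one, one_mul] at e
  rw [e]
  exact prod13

/-- **no element of order 65** -/
theorem no_order {F : Type u} [Field F] [Fintype F] (hF : Fintype.card F = 2) (x : ↥(chevE7.group F)) :
    orderOf x ≠ 65 := by
  intro hx
  classical
  have g := stdE7.good
  have : Finite (GL chevE7.Idx F) := finite_GL
  have : Fact (Nat.Prime 2) := ⟨Nat.prime_two⟩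
  have : Fact (Nat.Prime 5) := ⟨by norm_num⟩
  have : Fact (Nat.Prime 13) := ⟨by norm_num⟩
  have : CharP F 2 := charP_of_card_eq_prime_pow (f := 1) (by rw [hF, pow_one])
  have hdet := Tori.det_ne_of_dinv two_pos Tori.dinvE7
  obtain ⟨L, _, _, ι, σ, hσ, hbij, hdvd, hlang⟩ := lang_finite stdE7 hdet (F := F) (N := 65)
    (by norm_num) (by rw [hF]; decide) (fun L _ _ j b => by
      have : CharP L 2 := charP_of_injective_ringHom j.injective 2
      exact dgn_mem_two b)
  have : CharP L 2 := charP_of_injective_ringHom ι.injective 2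
  have hσι : ∀ z, σ (ι z) = ι z := fun z => by rw [hσ, ← map_pow, FiniteField.pow_card]
  obtain ⟨γ, hγ⟩ := IsCyclic.exists_ofOrder_eq_natCard (α := Lˣ)
  rw [Nat.card_units, Nat.card_eq_fintype_card] at hγ
  have hL1 : 0 < Fintype.card L - 1 := by have := Fintype.one_lt_card (α := L); omega
  obtain ⟨k, hk⟩ := hdvd
  have hζ13 : IsPrimitiveRoot (γ ^ (5 * k)) 13 :=
    (hγ ▸ IsPrimitiveRoot.orderOf γ).pow hL1 (by rw [hk]; ring)
  have hζ5 : IsPrimitiveRoot (γ ^ (13 * k)) 5 :=
    (hγ ▸ IsPrimitiveRoot.orderOf γ).pow hL1 (by rw [hk]; ring)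
  set ζ := γ ^ (5 * k)
  set η := γ ^ (13 * k)
  have hw12 : Letters chevE7 w12 := Tori.cycE7_ok.letters
  obtain ⟨G, hG, hGt⟩ := hlang w12 hw12
  set m := Matrix.GeneralLinearGroup.map (n := chevE7.Idx) ι with hm
  have hminj : Function.Injective m := fun a b e =>
    Units.ext (Matrix.map_injective ι.injective (congrArg Units.val e))
  set a : Fin chevE7.rank → Lˣ := fun i => zp ζ (v0z i) with ha
  obtain ⟨s0, hs0⟩ := descend stdE7 (fun b => dgn_mem_two b) ι hσ hbij
    (mul_mem (mul_mem hG (dgn_mem_two a)) (inv_mem hG))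
    (twist_fixed hζ13 (q := Fintype.card F) hσ hw12
      (by rw [hF]; exact_mod_cast v0_eigen) hGt)
  have ha13 : a ^ 13 = 1 := by
    funext i
    rw [Pi.pow_apply, ha, ← zp_nat hζ13, ZMod.natCast_self, zero_mul]
    simpa using zp_cast hζ13 (0 : ℤ)
  have ha1 : a ≠ 1 := fun e => by
    have h0 := congrFun e ⟨0, by rw [rank_E7]; norm_num⟩
    have : v0z ⟨0, by rw [rank_E7]; norm_num⟩ = 0 :=
      zp_inj hζ13 (h0.trans (by simpa using (zp_cast hζ13 (0 : ℤ)).symm))
    exact two_ne this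
  have hs013 : orderOf s0 = 13 := by
    rw [← Subgroup.orderOf_coe, ← orderOf_injective _ hminj, hs0,
      show G * dgn chevE7 auxE7 a * G⁻¹ = MulAut.conj G (dgn chevE7 auxE7 a) from rfl,
      MulEquiv.orderOf_eq, orderOf_injective _ (dgn_inj g)]
    exact orderOf_eq_prime ha13 ha1
  -- conjugate the part of order thirteen
  have h13G : 13 ∣ Nat.card ↥(chevE7.group F) := hs013 ▸ orderOf_dvd_natCard s0
  obtain ⟨M, hM⟩ := h13G
  obtain ⟨g0, hg0⟩ := G2Spec.pconj_into (Subgroup.zpowers s0) (p := 13) (M := M)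
    (by rw [Nat.card_zpowers, hs013, hM]) (fun hd => card13 hF (by rw [hM, sq]; exact Nat.mul_dvd_mul_left 13 hd))
    (x := x ^ 5) (k := 1)
    (by rw [← pow_mul, pow_one, show 5 * 13 = orderOf x by rw [hx], pow_orderOf_eq_one])
  obtain ⟨j, -, hj⟩ : ∃ j < 13, s0 ^ j = g0 * x ^ 5 * g0⁻¹ := by
    have := (mem_zpowers_iff_mem_range_orderOf).1 hg0
    rw [hs013, Finset.mem_image] at this
    obtain ⟨j, hj, e⟩ := this
    exact ⟨j, Finset.mem_range.1 hj, e⟩
  have hx5 : x ^ 5 ≠ 1 := fun e => by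
    have := orderOf_dvd_of_pow_eq_one e; rw [hx] at this; norm_num at this
  have hj13 : (j : ZMod 13) ≠ 0 := fun e => by
    obtain ⟨t, rfl⟩ := (ZMod.natCast_eq_zero_iff j 13).1 e
    rw [pow_mul, show s0 ^ 13 = 1 from hs013 ▸ pow_orderOf_eq_one s0, one_pow] at hj
    exact hx5 (by
      have := hj.symm
      rwa [mul_inv_eq_one, mul_eq_left] at this)
  set v1 : Fin chevE7.rank → ZMod 13 := fun i => (j : ZMod 13) * v0z i
  obtain ⟨c, hc⟩ := dgn_tor_two fun i => zp ζ (v1 i)
  have hA : G⁻¹ * m ((g0 * x ^ 5 * g0⁻¹ : ↥(chevE7.group F)) : GL chevE7.Idx F) * G =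
      tor chevE7 auxE7 c := by
    rw [← hj, Subgroup.coe_pow, map_pow, hs0, conj_pow, ← map_pow, ← hc]
    rw [show a ^ j = fun i => zp ζ (v1 i) from funext fun i => (zp_nat hζ13 j _).symm]
    group
  have hchi : ∀ r < chevE7.nroots,
      chi chevE7 auxE7 c r = zp ζ ((j : ZMod 13) * ((val r : ℤ) : ZMod 13)) := fun r hr => by
    rw [chi_zp hζ13 hc hr, ← lin_v0, lin_apply, lin_apply, Finset.mul_sum]
    congr 1
    exact Finset.sum_congr rfl fun i _ => by ring
  have heq : ∀ r < chevE7.nroots, ∀ t < chevE7.nroots,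
      chi chevE7 auxE7 c r = chi chevE7 auxE7 c t → val r = val t := fun r hr t ht e => by
    rw [hchi r hr, hchi t ht] at e
    have h1 := mul_left_cancel₀ hj13 (zp_inj hζ13 e)
    have h2 := val_range t
    have := val_of_cast (r := r) (s := t) (c := 1) (by rw [Int.cast_one, one_mul]; exact h1)
    omega
  set B : ↥(chevE7.group F) := g0 * x ^ 13 * g0⁻¹
  set y := G⁻¹ * m (B : GL chevE7.Idx F) * G with hy
  have hymem : y ∈ chevE7.group L :=
    mul_mem (mul_mem (inv_mem hG) (group_map_le g ι ⟨_, B.2, rfl⟩)) hG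
  have hB5 : B ^ 5 = 1 := by
    rw [conj_pow, ← pow_mul, show 13 * 5 = 65 by norm_num, ← hx, pow_orderOf_eq_one]
    simp
  have hy5 : y ^ 5 = 1 := by
    rw [hy, show G⁻¹ * m (B : GL chevE7.Idx F) * G = G⁻¹ * m (B : GL chevE7.Idx F) * G⁻¹⁻¹ by
      rw [inv_inv], conj_pow, ← map_pow, ← Subgroup.coe_pow, hB5, Subgroup.coe_one, map_one]
    simp
  have hy1 : y ≠ 1 := fun e => by
    rw [hy, mul_eq_one_iff_eq_inv, mul_eq_left, ← map_one m] at e
    have h1 : B = 1 := Subtype.ext (hminj e)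
    rw [mul_inv_eq_one, mul_eq_left] at h1
    have := orderOf_dvd_of_pow_eq_one h1; rw [hx] at this; norm_num at this
  have hyc : y * tor chevE7 auxE7 c = tor chevE7 auxE7 c * y := by
    rw [← hA, hy]
    have h1 : B * (g0 * x ^ 5 * g0⁻¹) = (g0 * x ^ 5 * g0⁻¹) * B := by
      simp only [B]
      rw [show ∀ P Q, g0 * P * g0⁻¹ * (g0 * Q * g0⁻¹) = g0 * (P * Q) * g0⁻¹ from fun P Q => by group,
        show ∀ P Q, g0 * P * g0⁻¹ * (g0 * Q * g0⁻¹) = g0 * (P * Q) * g0⁻¹ from fun P Q => by group,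
        ← pow_add, ← pow_add, add_comm]
    have h2 := congrArg (fun z : ↥(chevE7.group F) => G⁻¹ * m (z : GL chevE7.Idx F) * G) h1
    simp only [Subgroup.coe_mul, map_mul] at h2 ⊢
    calc _ = _ := by group
      _ = _ := h2
      _ = _ := by group
  obtain ⟨k2, hk2, hk2c, d, hd⟩ := F4Prime.toral_step stdE7 c (p := 5)
    (Or.inl ⟨13 * k, by rw [hk]; ring⟩) (St_five heq) hymem hy5 hyc
  obtain ⟨w, hw, hrel⟩ := F4Prime.exists_rel stdE7 hσ hσι (mul_mem hk2 (inv_mem hG))
  have hrc := hrel ((g0 * x ^ 5 * g0⁻¹ : ↥(chevE7.group F)) : GL chevE7.Idx F) c (by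
    rw [_root_.mul_inv_rev, inv_inv, show ∀ z : GL chevE7.Idx L, k2 * G⁻¹ * z * (G * k2⁻¹) =
      k2 * (G⁻¹ * z * G) * k2⁻¹ from fun z => by group, hA, hk2c, mul_inv_cancel_right])
  have hrd := hrel (B : GL chevE7.Idx F) d (by
    rw [_root_.mul_inv_rev, inv_inv, show ∀ z : GL chevE7.Idx L, k2 * G⁻¹ * z * (G * k2⁻¹) =
      k2 * (G⁻¹ * z * G) * k2⁻¹ from fun z => by group, ← hy, hd])
  have hval : ∀ i < 7, val (wf auxE7 w (chevE7.simple i)) = 2 * val (chevE7.simple i) % 13 := by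
    intro i hi
    have hs := g.simple_lt i (by rw [rank_E7]; exact hi)
    have h1 := hrc _ hs
    rw [hchi _ (wf_lt g hw hs), hchi _ hs, hF, ← zp_nat hζ13] at h1
    refine val_of_cast (c := 2) (mul_left_cancel₀ hj13 ((zp_inj hζ13 h1).trans ?_))
    push_cast
    ring
  -- the vector of order five
  set b : Fin chevE7.rank → Lˣ := fun i => chi chevE7 auxE7 d (chevE7.simple i) with hb
  have hdb : tor chevE7 auxE7 d = dgn chevE7 auxE7 b := tor_eq_dgn g d
  have hb5 : b ^ 5 = 1 := dgn_inj g (by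
    rw [map_pow, ← hdb, ← hd, conj_pow, hy5, map_one]; simp)
  have hb1 : b ≠ 1 := fun e => by
    rw [hdb, e, map_one, mul_inv_eq_one] at hd
    exact hy1 (mul_left_cancel (hd.trans (mul_one k2).symm))
  have hex : ∀ i, ∃ z : ZMod 5, zp η z = b i := by
    intro i
    obtain ⟨t, -, ht⟩ := (IsPrimitiveRoot.coe_units_iff.2 hζ5).eq_pow_of_pow_eq_one (ξ := (b i : L))
      (by rw [← Units.val_pow_eq_pow_val, show b i ^ 5 = 1 from congrFun hb5 i, Units.val_one])
    refine ⟨((t : ℤ) : ZMod 5), ?_⟩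
    rw [zp_cast hζ5, zpow_natCast]
    exact Units.ext (by rw [Units.val_pow_eq_pow_val]; exact ht)
  choose v5 hv5 using hex
  have hb' : dgn chevE7 auxE7 (fun i => zp η (v5 i)) = tor chevE7 auxE7 d := by
    rw [hdb, funext hv5]
  have hev : v5 ∈ eigen (ZMod 5) chevE7 auxE7 w 2 := by
    refine mem_eigen.2 (funext fun i => zp_inj hζ5 ?_)
    have hs := g.simple_lt i i.isLt
    have h1 := hrd _ hs
    rw [chi_zp hζ5 hb' (wf_lt g hw hs), chi_zp hζ5 hb' hs, hF, ← zp_nat hζ5, lin_simple g] at h1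
    exact h1
  refine hb1 (funext fun i => ?_)
  rw [← hv5, coset_five hw hval hev]
  simpa using zp_cast hζ5 (0 : ℤ)

/-- groups with an element of order 65 do not embed -/
theorem isEmpty_of {M : Type*} [Group M] (H : Subgroup ↥(chevE7.group (ZMod 2)))
    (h : ∃ y : M, orderOf y = 65) : IsEmpty (↥H ≃* M) := by
  obtain ⟨y, hy⟩ := h
  refine ⟨fun e => no_order (ZMod.card 2) (H.subtype (e.symm y)) ?_⟩
  rw [orderOf_injective _ H.subtype_injective, MulEquiv.orderOf_eq, hy]

end CfsgLib.Chev.E7Prime
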